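import Mathlib.AlgebraicTopology.CechNerve
import Mathlib.AlgebraicTopology.SimplicialObject.Homotopy

/-! Simplicial homotopies between endomorphisms of Čech nerves. -/

set_option autoImplicit false
universe v u

namespace Groth.Agent.Simp43

open CategoryTheory CategoryTheory.Limits Opposite SimplicialObject

variable {C : Type u} [Category.{v} C] (f : Arrow C)
  [∀ n : ℕ, HasWidePullback.{0} f.right (fun _ : Fin (n + 1) => f.left) fun _ => f.hom]

/-- Endomorphisms over the base give homotopic endomorphisms of the Čech nerve. -/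
theorem nonempty_homotopy (F G : f ⟶ f) (hF : F.right = 𝟙 _) (hG : G.right = 𝟙 _) :
    Nonempty (SimplicialObject.Homotopy (Arrow.mapCechNerve F) (Arrow.mapCechNerve G)) := by
  have hFw : F.left ≫ f.hom = f.hom := by
    have := Arrow.w F; rw [hF, Category.comp_id] at this; exact this
  have hGw : G.left ≫ f.hom = f.hom := by
    have := Arrow.w G; rw [hG, Category.comp_id] at this; exact this
  let w : ∀ {n : ℕ}, Fin (n + 1) → Fin (n + 2) → (f.left ⟶ f.left) :=
    fun {n} i j => if (j : ℕ) ≤ (i : ℕ) then F.left else G.left
  let H : ∀ {n : ℕ} (i : Fin (n + 1)),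
      f.cechNerve.obj (op (SimplexCategory.mk n)) ⟶ f.cechNerve.obj (op (SimplexCategory.mk (n + 1))) :=
    fun {n} i => WidePullback.lift (WidePullback.base _)
      (fun j => WidePullback.π _ (i.predAbove j) ≫ w i j) (fun j => by
        dsimp only [w]; split <;> simp [hF, hG])
  have hpr : ∀ {n : ℕ} (i : Fin (n + 1)) (j : Fin (n + 2)),
      ((i.predAbove j : Fin (n + 1)) : ℕ) = if (j : ℕ) ≤ (i : ℕ) then (j : ℕ) else (j : ℕ) - 1 := by
    intro n i j
    rcases le_or_gt (j : ℕ) (i : ℕ) with h | h
    · rw [if_pos h, Fin.predAbove_of_le_castSucc _ _ (by simpa [Fin.le_def] using h)]; simp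
    · rw [if_neg (by omega), Fin.predAbove_of_castSucc_lt _ _ (by simpa [Fin.lt_def] using h)]; simp
  have hsa : ∀ {n : ℕ} (i : Fin (n + 2)) (j : Fin (n + 1)),
      ((i.succAbove j : Fin (n + 2)) : ℕ) = if (j : ℕ) < (i : ℕ) then (j : ℕ) else (j : ℕ) + 1 := by
    intro n i j
    rcases lt_or_ge (j : ℕ) (i : ℕ) with h | h
    · rw [if_pos h, Fin.succAbove_of_castSucc_lt _ _ (by simpa [Fin.lt_def] using h)]; simp
    · rw [if_neg (by omega), Fin.succAbove_of_le_castSucc _ _ (by simpa [Fin.le_def] using h)]; simp
  refine ⟨{ h := H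
            h_zero_comp_δ_zero := ?_
            h_last_comp_δ_last := ?_
            h_succ_comp_δ_castSucc_of_lt := ?_
            h_succ_comp_δ_castSucc_succ := ?_
            h_castSucc_comp_δ_succ_of_lt := ?_
            h_comp_σ_castSucc_of_le := ?_
            h_comp_σ_succ_of_lt := ?_ }⟩
  all_goals intros
  all_goals apply WidePullback.hom_ext (arrows := fun _ => f.hom)
  all_goals
    first
    | (intro k
       simp only [H, w, SimplicialObject.δ, SimplicialObject.σ, Arrow.cechNerve_map, Arrow.mapCechNerve_app,
         Category.assoc, WidePullback.lift_π, WidePullback.lift_π_assoc, Quiver.Hom.unop_op]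
       simp only [SimplexCategory.δ, SimplexCategory.σ, SimplexCategory.mkHom, SimplexCategory.Hom.toOrderHom_mk,
         Fin.succAboveOrderEmb_apply, OrderEmbedding.toOrderHom, Fin.predAboveOrderHom_coe,
         OrderHom.coe_mk]
       first
       | (refine congrArg₂ (· ≫ ·) (congrArg _ (Fin.ext ?_)) ?_
          · simp only [hpr, hsa, Fin.val_succ, Fin.val_castSucc, Fin.val_zero, Fin.val_last, Fin.le_def,
              Fin.lt_def] at *
            split_ifs at * <;> omega
          · simp only [hpr, hsa, Fin.val_succ, Fin.val_castSucc, Fin.val_zero, Fin.val_last, Fin.le_def,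
              Fin.lt_def] at *
            split_ifs at * <;> first | rfl | omega)
       | trace_state)
    | (simp only [H, SimplicialObject.δ, SimplicialObject.σ, Arrow.cechNerve_map, Arrow.mapCechNerve_app,
         Category.assoc, Category.comp_id, hF, hG]
       erw [WidePullback.lift_base, WidePullback.lift_base, WidePullback.lift_base]
       all_goals (try erw [WidePullback.lift_base])
       all_goals simp [hF, hG])

end Groth.Agent.Simp43
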