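import Mathlib.AlgebraicTopology.DoldKan.Normalized
import Mathlib.AlgebraicTopology.DoldKan.Degeneracies
import Mathlib.AlgebraicTopology.DoldKan.Decomposition
import Mathlib.CategoryTheory.Subobject.Limits
import Mathlib.CategoryTheory.Functor.KanExtension.Adjunction
import Groth.Agent.S6810

/-! Skeleta of simplicial objects in abelian categories and normalized Moore complexes. -/

set_option autoImplicit false
universe v u

namespace Groth.Agent.Simp43

open CategoryTheory CategoryTheory.Limits Opposite AlgebraicTopology AlgebraicTopology.DoldKan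

variable {A : Type u} [Category.{v} A] [Abelian A]

theorem objX_arrow_comp_PInfty (X : SimplicialObject A) (n : ℕ) :
    (NormalizedMooreComplex.objX X n).arrow ≫ PInfty.f n = (NormalizedMooreComplex.objX X n).arrow :=
  HomologicalComplex.congr_hom (inclusionOfMooreComplexMap_comp_PInfty X) n

theorem inf_objX_eq_bot (X : SimplicialObject A) (n : ℕ)
    (P : Subobject (X.obj (op (SimplexCategory.mk n)))) (hP : P.arrow ≫ PInfty.f n = 0) :
    P ⊓ NormalizedMooreComplex.objX X n = ⊥ := by
  let O := NormalizedMooreComplex.objX X n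
  have h : (P ⊓ O).arrow = 0 := by
    have e1 := Subobject.ofLE_arrow (inf_le_right : P ⊓ O ≤ O)
    have e2 := Subobject.ofLE_arrow (inf_le_left : P ⊓ O ≤ P)
    have : (P ⊓ O).arrow ≫ PInfty.f n = 0 :=
      (congrArg (· ≫ PInfty.f n) e2.symm).trans ((Category.assoc _ _ _).trans
        ((congrArg (_ ≫ ·) hP).trans comp_zero))
    rw [← this]
    exact e1.symm.trans ((congrArg (_ ≫ ·) (objX_arrow_comp_PInfty X n).symm).trans
      ((Category.assoc _ _ _).symm.trans (congrArg (· ≫ PInfty.f n) e1)))
  rw [← Subobject.mk_arrow (P ⊓ O)]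
  exact Subobject.mk_eq_bot_iff_zero.2 h

/-- A map from a simplex of dimension `i < m` kills the normalized part. -/
theorem map_comp_PInfty (X : SimplicialObject A) {m : ℕ} {k : SimplexCategory} (hk : k.len < m)
    (θ : SimplexCategory.mk m ⟶ k) : X.map θ.op ≫ PInfty.f m = 0 := by
  refine degeneracy_comp_PInfty X m θ fun h => ?_
  have := SimplexCategory.len_le_of_mono (f := θ)
  simp at this
  omega

/-- A subobject contains the image of a map if the map vanishes in the cokernel. -/
theorem factors_of_comp_cokernel_eq_zero {X Y : A} (S : Subobject Y) (g : X ⟶ Y)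
    (h : g ≫ cokernel.π S.arrow = 0) : ∃ l : X ⟶ (S : A), l ≫ S.arrow = g :=
  ⟨Abelian.monoLift S.arrow g h, Abelian.monoLift_comp _ _ _⟩

theorem comp_cokernel_eq_zero {X Y : A} (S : Subobject Y) (g : X ⟶ Y)
    (h : imageSubobject g ≤ S) : g ≫ cokernel.π S.arrow = 0 := by
  rw [← imageSubobject_arrow_comp g, ← Subobject.ofLE_arrow h, Category.assoc, Category.assoc,
    cokernel.condition, comp_zero, comp_zero]

section Generated

variable (U : SimplicialObject A) (n : ℕ)
  (U' : ∀ m : ℕ, Subobject (U.obj (op (SimplexCategory.mk m))))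
  (hU' : ∀ m : ℕ, IsLUB (Set.range (fun φ : Σ i : Fin (n + 1),
    (SimplexCategory.mk m ⟶ SimplexCategory.mk i) => imageSubobject (U.map φ.2.op))) (U' m))

include hU'

theorem image_le_generated (m : ℕ) (i : ℕ) (hi : i ≤ n)
    (θ : SimplexCategory.mk m ⟶ SimplexCategory.mk i) : imageSubobject (U.map θ.op) ≤ U' m :=
  (hU' m).1 ⟨⟨⟨i, Nat.lt_succ_of_le hi⟩, θ⟩, rfl⟩

theorem generated_le {m : ℕ} (S : Subobject (U.obj (op (SimplexCategory.mk m))))
    (h : ∀ (i : ℕ), i ≤ n → ∀ θ : SimplexCategory.mk m ⟶ SimplexCategory.mk i,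
      U.map θ.op ≫ cokernel.π S.arrow = 0) : U' m ≤ S := by
  refine (hU' m).2 ?_
  rintro _ ⟨⟨i, θ⟩, rfl⟩
  obtain ⟨l, hl⟩ := factors_of_comp_cokernel_eq_zero S (U.map θ.op) (h i (Nat.le_of_lt_succ i.2) θ)
  exact imageSubobject_le _ l hl

theorem generated_simplicial (m m' : ℕ) (ψ : SimplexCategory.mk m' ⟶ SimplexCategory.mk m) :
    imageSubobject ((U' m).arrow ≫ U.map ψ.op) ≤ U' m' := by
  have h : U' m ≤ kernelSubobject (U.map ψ.op ≫ cokernel.π (U' m').arrow) := by
    refine (hU' m).2 ?_
    rintro _ ⟨⟨i, θ⟩, rfl⟩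
    refine imageSubobject_le _ (factorThruKernelSubobject _ (U.map θ.op) ?_)
      (factorThruKernelSubobject_comp_arrow _ _ _)
    rw [← Category.assoc, ← U.map_comp, ← op_comp]
    exact comp_cokernel_eq_zero _ _ (image_le_generated U n U' hU' m' i (Nat.le_of_lt_succ i.2) _)
  obtain ⟨l, hl⟩ := factors_of_comp_cokernel_eq_zero (U' m') ((U' m).arrow ≫ U.map ψ.op) (by
    rw [Category.assoc, ← Subobject.ofLE_arrow h, Category.assoc, kernelSubobject_arrow_comp,
      comp_zero])
  exact imageSubobject_le _ l hl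

theorem generated_eq_top (i : ℕ) (hi : i ≤ n) : U' i = ⊤ := by
  refine top_le_iff.1 (le_trans ?_ (image_le_generated U n U' hU' i i hi (𝟙 _)))
  have : IsIso (U.map (𝟙 (SimplexCategory.mk i)).op) := by rw [op_id, U.map_id]; infer_instance
  exact Subobject.le_of_comm (Subobject.arrow ⊤ ≫ inv (U.map (𝟙 (SimplexCategory.mk i)).op) ≫
    factorThruImageSubobject _) (by simp)

theorem generated_inf_objX (m : ℕ) (hm : n < m) :
    U' m ⊓ NormalizedMooreComplex.objX U m = ⊥ := by
  refine inf_objX_eq_bot U m _ ?_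
  have h : U' m ≤ kernelSubobject (PInfty.f m : U.obj (op (SimplexCategory.mk m)) ⟶ _) := by
    refine (hU' m).2 ?_
    rintro _ ⟨⟨i, θ⟩, rfl⟩
    exact imageSubobject_le _ (factorThruKernelSubobject _ (U.map θ.op)
      (map_comp_PInfty U (show (SimplexCategory.mk (i : ℕ)).len < m by
        have := i.2; simp; omega) θ))
      (factorThruKernelSubobject_comp_arrow _ _ _)
  rw [← Subobject.ofLE_arrow h]
  exact (Category.assoc _ _ _).trans ((congrArg (_ ≫ ·) (kernelSubobject_arrow_comp _)).trans comp_zero)

end Generated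

section Skeleton

variable (n : ℕ) [∀ F : (SimplexCategory.Truncated n)ᵒᵖ ⥤ A,
  (SimplexCategory.Truncated.inclusion n).op.HasLeftKanExtension F]

open SimplicialObject

theorem sk_hom_ext (V : SimplicialObject.Truncated A n) {k : SimplexCategoryᵒᵖ} {T : A}
    {g h : ((Truncated.sk n).obj V).obj k ⟶ T}
    (e : ∀ (j : (SimplexCategory.Truncated n)ᵒᵖ)
      (f : (SimplexCategory.Truncated.inclusion n).op.obj j ⟶ k),
      ((skAdj n).unit.app V).app j ≫ ((Truncated.sk n).obj V).map f ≫ g =
        ((skAdj n).unit.app V).app j ≫ ((Truncated.sk n).obj V).map f ≫ h) : g = h := by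
  let L := (SimplexCategory.Truncated.inclusion n).op
  have : L.HasPointwiseLeftKanExtension ((𝟭 _).obj V) := Groth.Agent.S6810.result n V
  have : Functor.IsLeftKanExtension ((Truncated.sk n).obj V) ((skAdj n).unit.app V) := by
    dsimp [Truncated.sk, skAdj]; rw [Functor.lanAdjunction_unit]; infer_instance
  have hc : IsColimit ((Functor.LeftExtension.mk ((Truncated.sk n).obj V)
      ((skAdj n).unit.app V)).coconeAt k) :=
    Functor.isPointwiseLeftKanExtensionOfIsLeftKanExtension _ _ k
  refine hc.hom_ext fun p => ?_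
  exact (Category.assoc _ _ _).trans ((e p.left p.hom).trans (Category.assoc _ _ _).symm)

theorem sk_PInfty_eq_zero (V : SimplicialObject.Truncated A n) (m : ℕ) (hm : n < m) :
    (PInfty.f m : ((Truncated.sk n).obj V).obj (op (SimplexCategory.mk m)) ⟶ _) = 0 := by
  refine sk_hom_ext n V fun j f => ?_
  rw [comp_zero, comp_zero]
  refine (congrArg (_ ≫ ·) ?_).trans comp_zero
  exact map_comp_PInfty _ (show j.unop.obj.len < m from lt_of_le_of_lt j.unop.2 hm) f.unop

theorem sk_objX_eq_bot (V : SimplicialObject.Truncated A n) (m : ℕ) (hm : n < m) :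
    NormalizedMooreComplex.objX ((Truncated.sk n).obj V) m = ⊥ := by
  let O := NormalizedMooreComplex.objX ((Truncated.sk n).obj V) m
  change O = ⊥
  rw [← Subobject.mk_arrow O]
  refine Subobject.mk_eq_bot_iff_zero.2 ?_
  exact (objX_arrow_comp_PInfty _ m).symm.trans
    ((congrArg (_ ≫ ·) (sk_PInfty_eq_zero n V m hm)).trans comp_zero)

theorem unit_map_counit (U : SimplicialObject A) (j : (SimplexCategory.Truncated n)ᵒᵖ)
    {k : SimplexCategoryᵒᵖ} (f : (SimplexCategory.Truncated.inclusion n).op.obj j ⟶ k) :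
    ((skAdj n).unit.app ((truncation n).obj U)).app j ≫
      ((Truncated.sk n).obj ((truncation n).obj U)).map f ≫ ((skAdj n).counit.app U).app k =
      U.map f := by
  refine (congrArg (_ ≫ ·) (((skAdj n).counit.app U).naturality f)).trans ?_
  refine (Category.assoc _ _ _).symm.trans ?_
  exact (congrArg (· ≫ U.map f)
    (NatTrans.congr_app ((skAdj n).right_triangle_components U) j)).trans (Category.id_comp _)

theorem counit_app_mono (U : SimplicialObject A) (m : ℕ) :
    Mono (((skAdj n).counit.app U).app (op (SimplexCategory.mk m))) := by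
  let W := (Truncated.sk n).obj ((truncation n).obj U)
  let c := (skAdj n).counit.app U
  have low : ∀ m : ℕ, m ≤ n → Mono (c.app (op (SimplexCategory.mk m))) := by
    intro m hm
    have : ∀ F : (SimplexCategory.Truncated n)ᵒᵖ ⥤ A,
        (SimplexCategory.Truncated.inclusion n).op.HasPointwiseLeftKanExtension F :=
      fun F => Groth.Agent.S6810.result n F
    have : IsIso ((truncation n).map c) := by
      have h := (skAdj n).right_triangle_components U
      have : IsIso ((skAdj n).unit.app ((truncation n).obj U)) := inferInstance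
      exact IsIso.of_isIso_fac_left (h := 𝟙 _) h
    have := (NatTrans.isIso_iff_isIso_app _).1 this
      (op ⟨SimplexCategory.mk m, (SimplexCategory.len_mk m).le.trans hm⟩)
    exact @IsIso.mono_of_iso _ _ _ _ _ this
  induction m with
  | zero => exact low 0 (Nat.zero_le _)
  | succ m ih =>
    by_cases hm : m + 1 ≤ n
    · exact low (m + 1) hm
    refine Preadditive.mono_of_cancel_zero _ fun {T} x hx => ?_
    change T ⟶ W.obj (op (SimplexCategory.mk (m + 1))) at x
    have hP : ∀ i : ℕ, ∀ j : Fin (m + 2),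
        x ≫ (P i).f (m + 1) ≫ W.δ j = 0 := by
      intro i j
      have h1 : (P i).f (m + 1) ≫ c.app (op (SimplexCategory.mk (m + 1))) =
          c.app (op (SimplexCategory.mk (m + 1))) ≫ (P i).f (m + 1) :=
        (P_f_naturality i (m + 1) c).symm
      have h2 : W.δ j ≫ c.app (op (SimplexCategory.mk m)) =
          c.app (op (SimplexCategory.mk (m + 1))) ≫ U.δ j := c.naturality _
      refine ih.right_cancellation _ _ ?_
      rw [Category.assoc, Category.assoc, zero_comp, h2, reassoc_of% h1, reassoc_of% hx, zero_comp]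
    have hQ : x ≫ (Q (m + 1)).f (m + 1) = 0 := by
      rw [decomposition_Q, Preadditive.comp_sum]
      refine Finset.sum_eq_zero fun i _ => ?_
      rw [reassoc_of% (hP i i.rev.succ), zero_comp]
    have h0 : x ≫ (P (m + 1)).f (m + 1) = 0 := by
      rw [← PInfty_f, sk_PInfty_eq_zero n _ (m + 1) (by omega)]
      exact comp_zero
    rw [← Category.comp_id x, ← P_add_Q_f (m + 1) (m + 1), Preadditive.comp_add, h0, hQ, add_zero]

theorem image_counit (U : SimplicialObject A)
    (U' : ∀ m : ℕ, Subobject (U.obj (op (SimplexCategory.mk m))))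
    (hU' : ∀ m : ℕ, IsLUB (Set.range (fun φ : Σ i : Fin (n + 1),
      (SimplexCategory.mk m ⟶ SimplexCategory.mk i) => imageSubobject (U.map φ.2.op))) (U' m))
    (m : ℕ) :
    imageSubobject (((skAdj n).counit.app U).app (op (SimplexCategory.mk m))) = U' m := by
  let c := (skAdj n).counit.app U
  refine le_antisymm ?_ (generated_le U n U' hU' _ fun i hi θ => ?_)
  · obtain ⟨l, hl⟩ := factors_of_comp_cokernel_eq_zero (U' m) (c.app (op (SimplexCategory.mk m))) (by
      refine sk_hom_ext n _ fun j f => ?_
      rw [comp_zero, comp_zero]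
      have hu := unit_map_counit n U j f
      refine (congrArg (_ ≫ ·) (Category.assoc _ _ _).symm).trans ((Category.assoc _ _ _).symm.trans ?_)
      refine (congrArg (· ≫ cokernel.π (U' m).arrow) hu).trans ?_
      exact comp_cokernel_eq_zero _ _
        (image_le_generated U n U' hU' m j.unop.obj.len j.unop.2 f.unop))
    exact imageSubobject_le _ l hl
  · have hu := unit_map_counit n U (op ⟨SimplexCategory.mk i, (SimplexCategory.len_mk i).le.trans hi⟩) θ.op
    refine (congrArg (· ≫ cokernel.π _) hu.symm).trans ((Category.assoc _ _ _).trans ?_)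
    refine (congrArg (_ ≫ ·) ((Category.assoc _ _ _).trans
      ((congrArg (_ ≫ ·) (comp_cokernel_eq_zero _ (c.app _) le_rfl)).trans comp_zero))).trans ?_
    exact comp_zero

end Skeleton

end Groth.Agent.Simp43
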