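import Mathlib.AlgebraicTopology.SimplicialObject.Coskeletal
import Mathlib.CategoryTheory.Limits.Shapes.FiniteLimits
import Mathlib.CategoryTheory.Functor.KanExtension.Pointwise
import Mathlib.Data.Opposite
import Mathlib.Data.Finite.Sigma

/-! Coskeletal simplicial objects in categories with finite limits. -/

set_option autoImplicit false
universe v u

namespace Groth.Agent.Simp43

open CategoryTheory CategoryTheory.Limits Opposite

variable {C : Type u} [Category.{v} C]

theorem hasPointwiseRightKanExtension [HasFiniteLimits C] (n : ℕ)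
    (U : (SimplexCategory.Truncated n)ᵒᵖ ⥤ C) :
    (SimplexCategory.Truncated.inclusion n).op.HasPointwiseRightKanExtension U := by
  intro Y
  let _ : FinCategory (StructuredArrow Y (SimplexCategory.Truncated.inclusion n).op) :=
    { fintypeObj := by
        have : Finite (SimplexCategory.Truncated n) :=
          Finite.of_injective (fun x => (⟨x.obj.len, Nat.lt_succ_of_le x.2⟩ : Fin (n + 1)))
            fun x y h => by ext; simpa using h
        have : Finite (SimplexCategory.Truncated n)ᵒᵖ := Finite.of_equiv _ Opposite.equivToOpposite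
        have hf : ∀ a b : SimplexCategoryᵒᵖ, Finite (a ⟶ b) := fun a b =>
          Finite.of_injective (fun f => f.unop) fun f g h => Quiver.Hom.unop_inj h
        have : Finite (StructuredArrow Y (SimplexCategory.Truncated.inclusion n).op) := by
          refine Finite.of_injective (β := Σ j : (SimplexCategory.Truncated n)ᵒᵖ,
            (Y ⟶ (SimplexCategory.Truncated.inclusion n).op.obj j)) (fun A => ⟨A.right, A.hom⟩) ?_
          intro A B h
          obtain ⟨h1, h2⟩ := Sigma.mk.inj_iff.1 h
          obtain ⟨⟨⟨⟩⟩, r, f⟩ := A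
          obtain ⟨⟨⟨⟩⟩, r', f'⟩ := B
          cases h1; cases h2; rfl
        exact Fintype.ofFinite _
      fintypeHom := fun A B => by
        have : Finite (A.right.unop ⟶ B.right.unop) ∧ Finite (B.right.unop ⟶ A.right.unop) :=
          ⟨Finite.of_injective (fun f => f.hom) fun f g h => InducedCategory.hom_ext h,
            Finite.of_injective (fun f => f.hom) fun f g h => InducedCategory.hom_ext h⟩
        have := this.2
        have : Finite (A ⟶ B) :=
          Finite.of_injective (fun f => f.right.unop) fun f g h =>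
            StructuredArrow.hom_ext _ _ (Quiver.Hom.unop_inj h)
        exact Fintype.ofFinite _ }
  infer_instance

variable (U : SimplicialObject C) (n : ℕ)

/-- Compatible families over the `n`-truncated simplices of `[k]`. -/
def Compatible {k : SimplexCategory} {S : C}
    (a : ∀ j : SimplexCategory.Truncated n, (j.obj ⟶ k) → (S ⟶ U.obj (op j.obj))) : Prop :=
  ∀ (i j : SimplexCategory.Truncated n) (g : i ⟶ j) (f : j.obj ⟶ k),
    a i (g.hom ≫ f) = a j f ≫ U.map g.hom.op

theorem existsUnique_of_isCoskeletal [HasFiniteLimits C] [U.IsCoskeletal n] {k : SimplexCategory}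
    {S : C} (a : ∀ j : SimplexCategory.Truncated n, (j.obj ⟶ k) → (S ⟶ U.obj (op j.obj)))
    (ha : Compatible U n a) :
    ∃! x : S ⟶ U.obj (op k), ∀ (j : SimplexCategory.Truncated n) (f : j.obj ⟶ k),
      x ≫ U.map f.op = a j f := by
  let L := (SimplexCategory.Truncated.inclusion n).op
  have : L.HasPointwiseRightKanExtension (L ⋙ U) := hasPointwiseRightKanExtension n _
  have h : IsLimit ((Functor.RightExtension.mk U (𝟙 (L ⋙ U))).coneAt (op k)) :=
    Functor.isPointwiseRightKanExtensionOfIsRightKanExtension _ _ (op k)
  let c : Cone (StructuredArrow.proj (op k) L ⋙ (L ⋙ U)) :=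
    { pt := S
      π :=
        { app := fun e => a e.right.unop e.hom.unop
          naturality := fun e e' φ => by
            have hw : e'.hom.unop = φ.right.unop.hom ≫ e.hom.unop :=
              congr_arg Quiver.Hom.unop (StructuredArrow.w φ).symm
            refine (Category.id_comp _).trans ?_
            show a e'.right.unop e'.hom.unop = a e.right.unop e.hom.unop ≫ U.map φ.right.unop.hom.op
            rw [hw]
            exact ha _ _ _ _ } }
  have key : ∀ (x : S ⟶ U.obj (op k)) (e : StructuredArrow (op k) L),
      x ≫ ((Functor.RightExtension.mk U (𝟙 (L ⋙ U))).coneAt (op k)).π.app e =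
        x ≫ U.map e.hom := fun x e => by
    exact congrArg (x ≫ ·) (Category.comp_id _)
  refine ⟨h.lift c, fun j f => ?_, fun y hy => h.uniq c y fun e => ?_⟩
  · have := h.fac c (StructuredArrow.mk (Y := op j) f.op)
    exact (key (h.lift c) _).symm.trans this
  · exact (key y e).trans (hy e.right.unop e.hom.unop)

theorem hom_ext_of_isCoskeletal [HasFiniteLimits C] [U.IsCoskeletal n] {k : SimplexCategory}
    {S : C} {x y : S ⟶ U.obj (op k)}
    (h : ∀ (j : SimplexCategory.Truncated n) (f : j.obj ⟶ k), x ≫ U.map f.op = y ≫ U.map f.op) :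
    x = y := by
  obtain ⟨z, -, hz⟩ := existsUnique_of_isCoskeletal U n (fun j f => x ≫ U.map f.op)
    (fun i j g f => by simp only [op_comp, Functor.map_comp, Category.assoc])
  rw [hz x fun j f => rfl, hz y fun j f => (h j f).symm]

theorem isCoskeletal_of_existsUnique
    (h : ∀ (k : SimplexCategory) (S : C)
      (a : ∀ j : SimplexCategory.Truncated n, (j.obj ⟶ k) → (S ⟶ U.obj (op j.obj))),
      Compatible U n a →
      ∃! x : S ⟶ U.obj (op k), ∀ (j : SimplexCategory.Truncated n) (f : j.obj ⟶ k),
        x ≫ U.map f.op = a j f) :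
    U.IsCoskeletal n := by
  let L := (SimplexCategory.Truncated.inclusion n).op
  refine ⟨Functor.RightExtension.IsPointwiseRightKanExtension.isRightKanExtension
    (E := Functor.RightExtension.mk U (𝟙 (L ⋙ U))) ?_⟩
  rintro ⟨k⟩
  have key : ∀ {S : C} (x : S ⟶ U.obj (op k)) (e : StructuredArrow (op k) L),
      x ≫ ((Functor.RightExtension.mk U (𝟙 (L ⋙ U))).coneAt (op k)).π.app e =
        x ≫ U.map e.hom := fun x e => by
    exact congrArg (x ≫ ·) (Category.comp_id _)
  have hc : ∀ c : Cone (StructuredArrow.proj (op k) L ⋙ (L ⋙ U)),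
      Compatible U n (k := k) (fun j f => c.π.app (StructuredArrow.mk (Y := op j) f.op)) :=
    fun c i j g f => (c.w (StructuredArrow.homMk (f := StructuredArrow.mk (Y := op j) f.op)
      (f' := StructuredArrow.mk (Y := op i) (g.hom ≫ f).op) g.op rfl)).symm
  refine IsLimit.ofExistsUnique fun c => ?_
  obtain ⟨x, hx, huniq⟩ := h k c.pt _ (hc c)
  refine ⟨x, fun e => ?_, fun y hy => huniq y fun j f => ?_⟩
  · obtain ⟨⟨⟨⟩⟩, e, f⟩ := e
    exact (key x _).trans (hx e.unop f.unop)
  · exact (key y (StructuredArrow.mk (Y := op j) f.op)).symm.trans (hy _)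

/-- `n`-coskeletal objects are `m`-coskeletal for `n ≤ m`. -/
theorem isCoskeletal_of_le [HasFiniteLimits C] {n m : ℕ} (h : n ≤ m) [U.IsCoskeletal n] :
    U.IsCoskeletal m := by
  refine isCoskeletal_of_existsUnique U m fun k S a ha => ?_
  let i : SimplexCategory.Truncated n → SimplexCategory.Truncated m := fun j => ⟨j.obj, j.2.trans h⟩
  have hi : Compatible U n (k := k) (fun j f => a (i j) f) := fun p q g f =>
    ha (i p) (i q) (ObjectProperty.homMk g.hom) f
  obtain ⟨x, hx, huniq⟩ := existsUnique_of_isCoskeletal U n (fun j f => a (i j) f) hi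
  refine ⟨x, fun j f => hom_ext_of_isCoskeletal U n fun p g => ?_, fun y hy => huniq y fun p f => hy (i p) f⟩
  rw [Category.assoc, ← Functor.map_comp, ← op_comp, hx p (g ≫ f)]
  exact ha (i p) j (ObjectProperty.homMk g) f

/-- Forgetting the base preserves coskeletality in positive degree. -/
theorem isCoskeletal_forget [HasFiniteLimits C] (X : C) (n : ℕ) (hn : 1 ≤ n)
    (V : SimplicialObject (Over X)) [HasFiniteLimits (Over X)] [V.IsCoskeletal n] :
    SimplicialObject.IsCoskeletal (V ⋙ Over.forget X) n := by
  refine isCoskeletal_of_existsUnique _ n fun k S a ha => ?_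
  let o : SimplexCategory.Truncated n := ⟨SimplexCategory.mk 0, Nat.zero_le _⟩
  let l : SimplexCategory.Truncated n := ⟨SimplexCategory.mk 1, hn⟩
  let t : ∀ j : SimplexCategory.Truncated n, (j.obj ⟶ k) → (S ⟶ X) :=
    fun j f => a j f ≫ (V.obj (op j.obj)).hom
  have hw : ∀ (i j : SimplexCategory.Truncated n) (g : i ⟶ j) (f : j.obj ⟶ k),
      t i (g.hom ≫ f) = t j f := fun i j g f => by
    simp only [t, ha i j g f, Category.assoc]
    exact congrArg (a j f ≫ ·) (Over.w (V.map g.hom.op))
  have hconst : ∀ p q : Fin (k.len + 1),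
      t o (SimplexCategory.const _ k p) = t o (SimplexCategory.const _ k q) := by
    have key : ∀ p q : Fin (k.len + 1), p ≤ q →
        t o (SimplexCategory.const _ k p) = t o (SimplexCategory.const _ k q) := by
      intro p q hpq
      let f : l.obj ⟶ k := SimplexCategory.mkOfLe p q hpq
      have h0 : SimplexCategory.const o.obj k p = SimplexCategory.const o.obj l.obj 0 ≫ f := by
        ext i; rfl
      have h1 : SimplexCategory.const o.obj k q = SimplexCategory.const o.obj l.obj 1 ≫ f := by
        ext i; rfl
      rw [h0, h1]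
      exact (hw o l (ObjectProperty.homMk (SimplexCategory.const o.obj l.obj 0)) f).trans
        (hw o l (ObjectProperty.homMk (SimplexCategory.const o.obj l.obj 1)) f).symm
    intro p q
    rcases le_total p q with h | h
    · exact key p q h
    · exact (key q p h).symm
  let s : S ⟶ X := t o (SimplexCategory.const _ k 0)
  have hts : ∀ (j : SimplexCategory.Truncated n) (f : j.obj ⟶ k), t j f = s := by
    intro j f
    rw [← hw o j (ObjectProperty.homMk (SimplexCategory.const o.obj j.obj 0)) f]
    exact (congrArg (t o) (by ext i; rfl)).trans (hconst (f.toOrderHom 0) 0)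
  let a' : ∀ j : SimplexCategory.Truncated n, (j.obj ⟶ k) → (Over.mk s ⟶ V.obj (op j.obj)) :=
    fun j f => Over.homMk (a j f) (hts j f)
  have ha' : Compatible V n a' := fun i j g f => Over.OverMorphism.ext (ha i j g f)
  obtain ⟨x, hx, huniq⟩ := existsUnique_of_isCoskeletal V n a' ha'
  refine ⟨x.left, fun j f => congrArg CommaMorphism.left (hx j f), fun y hy => ?_⟩
  have hys : y ≫ (V.obj (op k)).hom = s := by
    rw [← hts o (SimplexCategory.const _ k 0)]
    simp only [t, ← hy, Category.assoc]
    exact congrArg (y ≫ ·) (Over.w (V.map (SimplexCategory.const o.obj k 0).op)).symm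
  exact congrArg CommaMorphism.left
    (huniq (Over.homMk (U := Over.mk s) y hys) fun j f => Over.OverMorphism.ext (hy j f))

end Groth.Agent.Simp43
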